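import Groth.Agent.Lib.LciH1.CM
import Groth.Agent.Lib.HB26.Pair
import Groth.Agent.Lib.SeqKinds.Basic
import Groth.Prelude.Def_LCI2
import Mathlib

/-!
# The first cotangent homology of a generically smooth complete intersection over a field
-/

universe u

open IsLocalRing RingTheory.Sequence

namespace GrothLib.LciH1

/-- Near a prime containing a Koszul regular ideal, the ideal is generated by a weakly regular sequence in the
maximal ideal. -/
theorem exists_weaklyRegular {R : Type u} [CommRing R] [IsNoetherianRing R] {I : Ideal R}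
    (hI : LCI.IsKoszulRegularIdeal I) (𝔭 : Ideal R) [𝔭.IsPrime] (hle : I ≤ 𝔭) :
    ∃ (c : ℕ) (f : Fin c → Localization.AtPrime 𝔭), IsWeaklyRegular (Localization.AtPrime 𝔭) (List.ofFn f) ∧
      (∀ i, f i ∈ maximalIdeal (Localization.AtPrime 𝔭)) ∧
      I.map (algebraMap R (Localization.AtPrime 𝔭)) = Ideal.span (Set.range f) := by
  obtain ⟨g, hg, l, hl, hIl⟩ := hI ⟨𝔭, inferInstance⟩ hle
  have hunit : IsUnit (algebraMap R (Localization.AtPrime 𝔭) g) :=
    IsLocalization.map_units (Localization.AtPrime 𝔭) (⟨g, hg⟩ : 𝔭.primeCompl)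
  letI : Algebra (Localization.Away g) (Localization.AtPrime 𝔭) := (IsLocalization.Away.lift g hunit).toAlgebra
  haveI : IsScalarTower R (Localization.Away g) (Localization.AtPrime 𝔭) :=
    .of_algebraMap_eq' (IsLocalization.Away.lift_comp g hunit).symm
  haveI : IsLocalization (Algebra.algebraMapSubmonoid (Localization.Away g) 𝔭.primeCompl) (Localization.AtPrime 𝔭) :=
    IsLocalization.isLocalization_of_submonoid_le (Localization.Away g) (Localization.AtPrime 𝔭) (Submonoid.powers g)
      𝔭.primeCompl (Submonoid.powers_le.2 hg)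
  haveI : Module.Flat (Localization.Away g) (Localization.AtPrime 𝔭) :=
    IsLocalization.flat _ (Algebra.algebraMapSubmonoid (Localization.Away g) 𝔭.primeCompl)
  set φ := algebraMap (Localization.Away g) (Localization.AtPrime 𝔭) with hφ
  have hflat : φ.Flat := RingHom.flat_algebraMap_iff.2 inferInstance
  have hH1 := GrothLib.SeqKinds.isH1Regular_map φ hflat l.get (GrothLib.SeqKinds.isH1Regular_of_isKoszulRegularSeq l hl)
  have hspan : I.map (algebraMap R (Localization.AtPrime 𝔭)) = Ideal.span (Set.range (φ ∘ l.get)) := by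
    rw [IsScalarTower.algebraMap_eq R (Localization.Away g) (Localization.AtPrime 𝔭), ← Ideal.map_map, hIl,
      Ideal.map_span, Set.range_comp, Set.range_list_get]
  have hmem : ∀ i, (φ ∘ l.get) i ∈ maximalIdeal (Localization.AtPrime 𝔭) := fun i => by
    rw [← Localization.AtPrime.map_eq_maximalIdeal]
    exact Ideal.map_mono hle (hspan ▸ Ideal.subset_span ⟨i, rfl⟩)
  refine ⟨_, φ ∘ l.get, GrothLib.KoszulH1.isWeaklyRegular_of_separates _
    (fun i => GrothLib.KoszulH1.separates_of_mem_jacobson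
      (IsLocalRing.maximalIdeal_le_jacobson ⊥ (hmem i))) ?_, hmem, hspan⟩
  intro m hm
  refine Submodule.span_le.2 ?_ (hH1 m (by rw [← hm]; exact Finset.sum_congr rfl fun i _ => mul_comm _ _))
  rintro _ ⟨i, j, rfl⟩
  exact Submodule.subset_span ⟨i, j, 1, by simp [← Pi.single_smul']⟩

/-- An element of a Koszul regular ideal of a Cohen-Macaulay ring which is in the square away from the minimal
primes is in the square. -/
theorem mem_sq_of_minimalPrimes {R : Type u} [CommRing R] [LocCoh.IsCohenMacaulayRing R] {I : Ideal R}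
    (hI : LCI.IsKoszulRegularIdeal I) {y : R} (hy : y ∈ I)
    (hs : ∀ q ∈ I.minimalPrimes, ∃ s ∉ q, s * y ∈ I ^ 2) : y ∈ I ^ 2 := by
  refine Ideal.mem_of_localization_maximal fun 𝔪 h𝔪 => ?_
  set L := Localization.AtPrime 𝔪
  by_cases hIm : I ≤ 𝔪
  swap
  · obtain ⟨a, ha, ha'⟩ := SetLike.not_le_iff_exists.1 hIm
    have : (I ^ 2).map (algebraMap R L) = ⊤ :=
      Ideal.eq_top_of_isUnit_mem _ (Ideal.mem_map_of_mem _ (Ideal.pow_mem_pow ha 2))
        (IsLocalization.map_units L (⟨a ^ 2, fun h => ha' (h𝔪.isPrime.mem_of_pow_mem 2 h)⟩ : 𝔪.primeCompl))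
    rw [this]; trivial
  haveI : LocCoh.IsCohenMacaulayLocalRing L := LocCoh.IsCohenMacaulayRing.isCohenMacaulayLocalRing_localization 𝔪
  obtain ⟨c, g, hg, hgm, hgI⟩ := exists_weaklyRegular hI 𝔪 hIm
  rw [Ideal.map_pow, hgI]
  refine mem_sq_of_mul_mem g hg hgm (hgI ▸ Ideal.mem_map_of_mem _ hy) fun q' hq' => ?_
  haveI := hq'.1.1
  have hdisj := (IsLocalization.isPrime_iff_isPrime_disjoint 𝔪.primeCompl L q').1 hq'.1.1
  have hIq : I ≤ q'.comap (algebraMap R L) := Ideal.map_le_iff_le_comap.1 (hgI ▸ hq'.1.2)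
  have hqmin : q'.comap (algebraMap R L) ∈ I.minimalPrimes := by
    refine ⟨⟨inferInstance, hIq⟩, fun q0 h0 hle => ?_⟩
    have hd : Disjoint (𝔪.primeCompl : Set R) (q0 : Set R) := hdisj.2.mono_right hle
    have hp := IsLocalization.isPrime_of_isPrime_disjoint 𝔪.primeCompl L q0 h0.1 hd
    have h1 := hq'.2 ⟨hp, hgI ▸ Ideal.map_mono h0.2⟩ (Ideal.map_le_iff_le_comap.2 hle)
    exact le_trans (Ideal.comap_mono h1) (IsLocalization.comap_map_of_isPrime_disjoint 𝔪.primeCompl L h0.1 hd).le
  obtain ⟨s, hsq, hsy⟩ := hs _ hqmin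
  refine ⟨algebraMap R L s, hsq, ?_⟩
  rw [← hgI, ← Ideal.map_pow, ← map_mul]
  exact Ideal.mem_map_of_mem _ hsy

/-- The first cotangent homology of a generically smooth complete intersection over a field vanishes. -/
theorem subsingleton_h1Cotangent (k : Type u) [Field k] (A : Type u) [CommRing A] [Algebra k A]
    (hlci : LCI.IsLCI k A)
    (hgs : ∀ (p : Ideal A) [p.IsPrime], p ∈ minimalPrimes A → Algebra.FormallySmooth k (Localization.AtPrime p)) :
    Subsingleton (Algebra.H1Cotangent k A) := by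
  obtain ⟨-, n, f, hf, hI⟩ := hlci
  let P := Algebra.Generators.ofAlgHom f hf
  have haeval : MvPolynomial.aeval P.val = f := by ext; simp [P, Algebra.Generators.ofAlgHom]
  suffices h : ∀ x : P.toExtension.H1Cotangent, x = 0 by
    haveI : Subsingleton P.toExtension.H1Cotangent := subsingleton_of_forall_eq 0 h
    exact P.equivH1Cotangent.symm.toEquiv.subsingleton
  intro x
  ext1
  rw [Algebra.Extension.H1Cotangent.val_zero]
  obtain ⟨⟨y, hy⟩, hyx⟩ := Algebra.Extension.Cotangent.mk_surjective x.1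
  rw [← hyx, Algebra.Extension.Cotangent.mk_eq_zero_iff]
  have hker : P.toExtension.ker = RingHom.ker f.toRingHom := by
    show RingHom.ker (algebraMap P.Ring A) = _
    rw [Algebra.Generators.algebraMap_eq, haeval]
    rfl
  show y ∈ P.toExtension.ker ^ 2
  rw [hker] at hy ⊢
  haveI : Algebra.Smooth k (MvPolynomial (Fin n) k) := ⟨inferInstance, inferInstance⟩
  haveI : LocCoh.IsCohenMacaulayRing (MvPolynomial (Fin n) k) :=
    GrothLib.HB26.isCohenMacaulayRing_of_smooth k (MvPolynomial (Fin n) k)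
  refine mem_sq_of_minimalPrimes (R := MvPolynomial (Fin n) k) hI hy fun q hq => ?_
  have hsurj : Function.Surjective f.toRingHom := hf
  haveI := hq.1.1
  set 𝔭 := q.map f.toRingHom with h𝔭
  haveI : 𝔭.IsPrime := Ideal.map_isPrime_of_surjective hsurj hq.1.2
  have hc : 𝔭.comap f.toRingHom = q := by
    rw [h𝔭, Ideal.comap_map_of_surjective' _ hsurj, sup_eq_left]; exact hq.1.2
  have hmin : 𝔭 ∈ minimalPrimes A := by
    refine ⟨⟨inferInstance, bot_le⟩, fun p0 h0 hle => ?_⟩
    haveI := h0.1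
    have := hq.2 (y := p0.comap f.toRingHom) ⟨inferInstance,
      fun a ha => by rw [Ideal.mem_comap, RingHom.mem_ker.1 ha]; exact zero_mem _⟩
      (hc ▸ Ideal.comap_mono hle)
    calc 𝔭 ≤ (p0.comap f.toRingHom).map f.toRingHom := Ideal.map_mono this
      _ ≤ p0 := Ideal.map_comap_le
  haveI := hgs 𝔭 hmin
  obtain ⟨⟨a, ha⟩, hax⟩ := (IsLocalizedModule.eq_zero_iff 𝔭.primeCompl
    (Algebra.H1Cotangent.map k k A (Localization.AtPrime 𝔭))).1
    (Subsingleton.elim (Algebra.H1Cotangent.map k k A (Localization.AtPrime 𝔭) (P.equivH1Cotangent x)) 0)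
  have hax' : a • x = 0 := P.equivH1Cotangent.injective (by rw [map_smul, map_zero]; exact hax)
  obtain ⟨s, rfl⟩ := hf a
  refine ⟨s, fun h => ha (Ideal.mem_map_of_mem f.toRingHom h), ?_⟩
  have h2 := congrArg Subtype.val hax'
  rw [Algebra.Extension.H1Cotangent.val_smul, Algebra.Extension.H1Cotangent.val_zero, ← hyx] at h2
  have key : ∀ t : P.toExtension.Ring, algebraMap P.Ring A t • Algebra.Extension.Cotangent.mk (P := P.toExtension) ⟨y, hker ▸ hy⟩ =
      Algebra.Extension.Cotangent.mk (P := P.toExtension) (t • ⟨y, hker ▸ hy⟩) := fun t => by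
    rw [map_smul]
    exact IsScalarTower.algebraMap_smul A t _
  have h3 := key s
  rw [Algebra.Generators.algebraMap_eq, haeval] at h3
  have h4 := h3.symm.trans h2
  rw [Algebra.Extension.Cotangent.mk_eq_zero_iff] at h4
  exact (SetLike.ext_iff.1 (congrArg (· ^ 2) hker) _).1 h4

end GrothLib.LciH1
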