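import Groth.Agent.Lib.Depth.CM
import Groth.Agent.Lib.HB26.Pair
import Groth.Agent.Lib.KoszulH1
import Groth.Agent.Lib.SeqKinds.Basic
import Mathlib

/-!
# Weakly regular sequences in Cohen-Macaulay local rings
-/

universe u

open IsLocalRing RingTheory.Sequence

namespace GrothLib.LciH1

variable {R : Type u} [CommRing R] [IsLocalRing R] [IsNoetherianRing R]

theorem supportDim_le_of_cm : ∀ (rs : List R) (M : Type u) [AddCommGroup M] [Module R M] [Module.Finite R M],
    LocCoh.IsCohenMacaulayModule R M → IsWeaklyRegular M rs → (∀ r ∈ rs, r ∈ maximalIdeal R) →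
    ∀ p ∈ associatedPrimes R (M ⧸ (Ideal.ofList rs • ⊤ : Submodule R M)),
      Module.supportDim R (M ⧸ (Ideal.ofList rs • ⊤ : Submodule R M)) ≤ ringKrullDim (R ⧸ p) := by
  intro rs
  induction rs with
  | nil =>
    intro M _ _ _ hM _ _ p hp
    let e : (M ⧸ (Ideal.ofList [] • ⊤ : Submodule R M)) ≃ₗ[R] M :=
      Submodule.quotEquivOfEqBot (Ideal.ofList ([] : List R) • ⊤ : Submodule R M) (by rw [Ideal.ofList_nil, Submodule.bot_smul])
    rw [Module.supportDim_eq_of_equiv e, hM]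
    exact GrothLib.Depth.depth_le_dim_quotient (LinearEquiv.AssociatedPrimes.eq e ▸ hp)
  | cons r rs ih =>
    intro M _ _ _ hM hreg hmem p hp
    rw [isWeaklyRegular_cons_iff] at hreg
    let e := Submodule.quotOfListConsSMulTopEquivQuotSMulTopInner M r rs
    rw [Module.supportDim_eq_of_equiv e]
    exact ih (QuotSMulTop r M) (GrothLib.Depth.isCM_quotSMulTop hM (hmem r List.mem_cons_self) hreg.1) hreg.2
      (fun s hs => hmem s (List.mem_cons_of_mem _ hs)) p (LinearEquiv.AssociatedPrimes.eq e ▸ hp)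

/-- A quotient of a Cohen-Macaulay local ring by a weakly regular sequence has no embedded primes. -/
theorem mem_minimalPrimes_of_associated [LocCoh.IsCohenMacaulayLocalRing R] (rs : List R) (hreg : IsWeaklyRegular R rs)
    (hmem : ∀ r ∈ rs, r ∈ maximalIdeal R) (p : Ideal R) (hp : p ∈ associatedPrimes R (R ⧸ Ideal.ofList rs)) :
    p ∈ (Ideal.ofList rs).minimalPrimes := by
  have heq : (Ideal.ofList rs • ⊤ : Submodule R R) = Ideal.ofList rs := by rw [smul_eq_mul, Ideal.mul_top]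
  let e := Submodule.quotEquivOfEq _ _ heq
  have h := supportDim_le_of_cm rs R LocCoh.IsCohenMacaulayLocalRing.supportDim_eq_depth hreg hmem p
    (LinearEquiv.AssociatedPrimes.eq e ▸ hp)
  rw [Module.supportDim_eq_of_equiv e, Module.supportDim_quotient_eq_ringKrullDim] at h
  haveI := hp.isPrime
  have hle : Ideal.ofList rs ≤ p := by
    have h2 := IsAssociatedPrime.annihilator_le hp
    rwa [Submodule.annihilator_top, Ideal.annihilator_quotient] at h2
  obtain ⟨q, hq, hqp⟩ := Ideal.exists_minimalPrimes_le hle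
  rcases hqp.eq_or_lt with rfl | hlt
  · exact hq
  · exfalso
    haveI := hq.1.1
    obtain ⟨x, hxp, hxq⟩ := SetLike.exists_of_lt hlt
    have hreg' : Ideal.Quotient.mk q x ∈ nonZeroDivisors (R ⧸ q) :=
      mem_nonZeroDivisors_of_ne_zero fun h0 => hxq (Ideal.Quotient.eq_zero_iff_mem.1 h0)
    have h1 := ringKrullDim_quotient_succ_le_of_nonZeroDivisor hreg'
    have h2 : ringKrullDim (R ⧸ p) ≤ ringKrullDim ((R ⧸ q) ⧸ Ideal.span {Ideal.Quotient.mk q x}) :=
      ringKrullDim_le_of_surjective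
        (Ideal.Quotient.lift _ (Ideal.Quotient.factor hlt.le) fun a ha => by
          obtain ⟨c, rfl⟩ := Ideal.mem_span_singleton'.1 ha
          rw [map_mul, Ideal.Quotient.factor_mk, Ideal.Quotient.eq_zero_iff_mem.2 hxp, mul_zero])
        fun z => by
          obtain ⟨a, rfl⟩ := Ideal.Quotient.mk_surjective z
          exact ⟨Ideal.Quotient.mk _ (Ideal.Quotient.mk q a), rfl⟩
    have h3 : ringKrullDim (R ⧸ q) ≤ ringKrullDim (R ⧸ Ideal.ofList rs) :=
      ringKrullDim_le_of_surjective _ (Ideal.Quotient.factor_surjective hq.1.2)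
    have h4 : ringKrullDim (R ⧸ p) + 1 ≤ ringKrullDim (R ⧸ p) :=
      (add_le_add h2 le_rfl).trans (h1.trans (h3.trans h))
    haveI : Nontrivial (R ⧸ p) := Ideal.Quotient.nontrivial_iff.2 hp.isPrime.ne_top
    haveI : IsLocalRing (R ⧸ p) := .of_surjective' (Ideal.Quotient.mk p) Ideal.Quotient.mk_surjective
    obtain ⟨d, hd⟩ := WithBot.ne_bot_iff_exists.1 (ringKrullDim_ne_bot (R := R ⧸ p))
    obtain ⟨n, hn⟩ := WithTop.ne_top_iff_exists.1
      (show d ≠ ⊤ from fun h => ringKrullDim_ne_top (R := R ⧸ p) (by rw [← hd, h]; rfl))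
    rw [← hd, ← hn] at h4
    have h5 : ((n + 1 : ℕ) : WithBot ℕ∞) ≤ ((n : ℕ) : WithBot ℕ∞) := by
      rw [Nat.cast_add, Nat.cast_one]; exact h4
    exact absurd (show (n + 1 : ℕ) ≤ n by exact_mod_cast h5) (by omega)

omit [IsLocalRing R] [IsNoetherianRing R] in
theorem mem_of_relation {n : ℕ} (f : Fin n → R) (hf : IsWeaklyRegular R (List.ofFn f)) (a : Fin n → R)
    (h : ∑ i, a i * f i = 0) (i : Fin n) : a i ∈ Ideal.span (Set.range f) := by
  have h1 := GrothLib.KoszulH1.mem_triv_of_isWeaklyRegular f hf a (by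
    rw [← h]; exact Finset.sum_congr rfl fun i _ => by rw [smul_eq_mul, mul_comm])
  refine Submodule.span_induction (fun v hv => ?_) ?_ (fun v w _ _ hv hw => ?_) (fun c v _ hv => ?_) h1
  · obtain ⟨p, q, x, rfl⟩ := hv
    simp only [Pi.sub_apply, Pi.smul_apply, smul_eq_mul]
    exact sub_mem (Ideal.mul_mem_right _ _ (Ideal.subset_span ⟨q, rfl⟩))
      (Ideal.mul_mem_right _ _ (Ideal.subset_span ⟨p, rfl⟩))
  · exact zero_mem _
  · exact add_mem hv hw
  · exact Ideal.mul_mem_left _ _ hv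

/-- An element of the ideal of a regular sequence which is in its square away from the minimal primes is in
its square. -/
theorem mem_sq_of_mul_mem [LocCoh.IsCohenMacaulayLocalRing R] {n : ℕ} (f : Fin n → R)
    (hf : IsWeaklyRegular R (List.ofFn f)) (hmem : ∀ i, f i ∈ maximalIdeal R) {y : R}
    (hy : y ∈ Ideal.span (Set.range f))
    (hs : ∀ q ∈ (Ideal.span (Set.range f)).minimalPrimes, ∃ s ∉ q, s * y ∈ Ideal.span (Set.range f) ^ 2) :
    y ∈ Ideal.span (Set.range f) ^ 2 := by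
  classical
  set J := Ideal.span (Set.range f) with hJ
  obtain ⟨a, ha⟩ := Ideal.mem_span_range_iff_exists_fun.1 hy
  rw [← ha, pow_two]
  refine Ideal.sum_mem _ fun i _ => Ideal.mul_mem_mul ?_ (Ideal.subset_span ⟨i, rfl⟩)
  have hsq : ∀ z ∈ J ^ 2, ∃ b : Fin n → R, (∀ i, b i ∈ J) ∧ z = ∑ i, b i * f i := fun z hz => by
    rw [pow_two] at hz
    refine Submodule.mul_induction_on hz (fun c hc d hd => ?_) ?_
    · obtain ⟨b, hb⟩ := Ideal.mem_span_range_iff_exists_fun.1 hd
      exact ⟨fun i => c * b i, fun i => Ideal.mul_mem_right _ _ hc, by simp only [← hb, Finset.mul_sum, mul_assoc]⟩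
    · rintro z w ⟨b, hb, rfl⟩ ⟨b', hb', rfl⟩
      exact ⟨b + b', fun i => add_mem (hb i) (hb' i), by simp [add_mul, Finset.sum_add_distrib]⟩
  rw [← Ideal.Quotient.eq_zero_iff_mem]
  by_contra hne
  obtain ⟨p, hp, hle⟩ := exists_le_isAssociatedPrime_of_isNoetherianRing R
    (Ideal.Quotient.mk J (a i) : R ⧸ J) hne
  have hofl : Ideal.ofList (List.ofFn f) = J := GrothLib.KoszulH1.ofList_ofFn f
  have hmin := mem_minimalPrimes_of_associated (List.ofFn f) hf
    (fun r hr => by obtain ⟨j, rfl⟩ := List.mem_ofFn.1 hr; exact hmem j) p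
    (by rw [hofl]; exact hp)
  rw [hofl] at hmin
  obtain ⟨s, hsp, hsy⟩ := hs p hmin
  obtain ⟨b, hb, hb'⟩ := hsq _ hsy
  have h := mem_of_relation f hf (fun j => s * a j - b j) (by
    simp only [sub_mul, Finset.sum_sub_distrib, mul_assoc, ← Finset.mul_sum, ha, ← hb', sub_self]) i
  refine hsp (hle ?_)
  have h' := add_mem h (hb i)
  rw [sub_add_cancel] at h'
  have h0 : s • (Ideal.Quotient.mk J (a i) : R ⧸ J) = 0 := by
    show Ideal.Quotient.mk J (s * a i) = 0
    exact Ideal.Quotient.eq_zero_iff_mem.2 h'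
  exact Submodule.mem_colon_singleton.2 h0

end GrothLib.LciH1
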