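import Groth.Agent.Lib.LciH1.Relative
import Mathlib

/-!
# The first cotangent homology of a flat complete intersection with generically smooth fibres
-/

universe u

open IsLocalRing RingTheory.Sequence

namespace GrothLib.LciH1

/-- An element of a Koszul regular ideal which a regular element of the quotient moves into the square is in
the square. -/
theorem mem_sq_of_regular {R : Type u} [CommRing R] [IsNoetherianRing R] {I : Ideal R}
    (hI : LCI.IsKoszulRegularIdeal I) {y s : R} (hy : y ∈ I) (hs : ∀ r, s * r ∈ I → r ∈ I)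
    (hsy : s * y ∈ I ^ 2) : y ∈ I ^ 2 := by
  refine Ideal.mem_of_localization_maximal fun 𝔪 h𝔪 => ?_
  set L := Localization.AtPrime 𝔪
  set φ := algebraMap R L with hφ
  by_cases hIm : I ≤ 𝔪
  swap
  · obtain ⟨a, ha, ha'⟩ := SetLike.not_le_iff_exists.1 hIm
    have : (I ^ 2).map φ = ⊤ :=
      Ideal.eq_top_of_isUnit_mem _ (Ideal.mem_map_of_mem _ (Ideal.pow_mem_pow ha 2))
        (IsLocalization.map_units L (⟨a ^ 2, fun h => ha' (h𝔪.isPrime.mem_of_pow_mem 2 h)⟩ : 𝔪.primeCompl))
    rw [this]; trivial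
  obtain ⟨c, g, hg, -, hgI⟩ := exists_weaklyRegular hI 𝔪 hIm
  rw [Ideal.map_pow, hgI, pow_two]
  have hy' : φ y ∈ Ideal.span (Set.range g) := hgI ▸ Ideal.mem_map_of_mem φ hy
  obtain ⟨a, ha⟩ := Ideal.mem_span_range_iff_exists_fun.1 hy'
  have hsq : ∀ w ∈ Ideal.span (Set.range g) * Ideal.span (Set.range g), ∃ b : Fin c → L,
      (∀ i, b i ∈ Ideal.span (Set.range g)) ∧ w = ∑ i, b i * g i := fun w hw => by
    refine Submodule.mul_induction_on hw (fun u hu d hd => ?_) ?_
    · obtain ⟨b, hb⟩ := Ideal.mem_span_range_iff_exists_fun.1 hd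
      exact ⟨fun i => u * b i, fun i => Ideal.mul_mem_right _ _ hu,
        by simp only [← hb, Finset.mul_sum, mul_assoc]⟩
    · rintro w w' ⟨b, hb, rfl⟩ ⟨b', hb', rfl⟩
      exact ⟨b + b', fun i => add_mem (hb i) (hb' i), by simp [add_mul, Finset.sum_add_distrib]⟩
  obtain ⟨b, hb, hb'⟩ := hsq (φ s * φ y) (by
    rw [← hgI, ← Ideal.map_mul, ← map_mul, ← pow_two]
    exact Ideal.mem_map_of_mem φ hsy)
  rw [← ha]
  refine Ideal.sum_mem _ fun i _ => Ideal.mul_mem_mul ?_ (Ideal.subset_span ⟨i, rfl⟩)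
  have h := mem_of_relation g hg (fun j => φ s * a j - b j) (by
    simp only [sub_mul, Finset.sum_sub_distrib, mul_assoc, ← Finset.mul_sum, ha, ← hb', sub_self]) i
  have h' := add_mem h (hb i)
  rw [sub_add_cancel, ← hgI] at h'
  obtain ⟨r, u, hru⟩ := IsLocalization.exists_mk'_eq 𝔪.primeCompl (a i)
  rw [← hgI, ← hru, IsLocalization.mk'_mem_map_algebraMap_iff 𝔪.primeCompl L]
  rw [← hru, IsLocalization.mul_mk'_eq_mk'_of_mul, IsLocalization.mk'_mem_map_algebraMap_iff 𝔪.primeCompl L] at h'
  obtain ⟨t, ht, ht'⟩ := h'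
  exact ⟨t, ht, hs _ (by rw [mul_left_comm]; exact ht')⟩

/-- At a prime where the quotient is formally smooth, a cycle is in the square of the ideal. -/
theorem exists_mul_mem_sq {k : Type u} [CommRing k] {A : Type u} [CommRing A] [Algebra k A] {n : ℕ}
    (f : MvPolynomial (Fin n) k →ₐ[k] A) (hf : Function.Surjective f) (𝔭 : Ideal A) [𝔭.IsPrime]
    [Algebra.FormallySmooth k (Localization.AtPrime 𝔭)]
    {x : (Algebra.Generators.ofAlgHom f hf).toExtension.H1Cotangent}
    {y : (Algebra.Generators.ofAlgHom f hf).toExtension.ker}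
    (hyx : Algebra.Extension.Cotangent.mk y = x.1) :
    ∃ s : MvPolynomial (Fin n) k, f s ∉ 𝔭 ∧ s * (show MvPolynomial (Fin n) k from y.1) ∈ RingHom.ker f.toRingHom ^ 2 := by
  let P := Algebra.Generators.ofAlgHom f hf
  have haeval : MvPolynomial.aeval P.val = f := by ext; simp [P, Algebra.Generators.ofAlgHom]
  have hker : P.toExtension.ker = RingHom.ker f.toRingHom := by
    show RingHom.ker (algebraMap P.Ring A) = _
    rw [Algebra.Generators.algebraMap_eq, haeval]
    rfl
  obtain ⟨⟨a, ha⟩, hax⟩ := (IsLocalizedModule.eq_zero_iff 𝔭.primeCompl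
    (Algebra.H1Cotangent.map k k A (Localization.AtPrime 𝔭))).1
    (Subsingleton.elim (Algebra.H1Cotangent.map k k A (Localization.AtPrime 𝔭) (P.equivH1Cotangent x)) 0)
  have hax' : a • x = 0 := P.equivH1Cotangent.injective (by rw [map_smul, map_zero]; exact hax)
  obtain ⟨s, rfl⟩ := hf a
  refine ⟨s, ha, ?_⟩
  have h2 := congrArg Subtype.val hax'
  rw [Algebra.Extension.H1Cotangent.val_smul, Algebra.Extension.H1Cotangent.val_zero, ← hyx] at h2
  have key : ∀ t : P.toExtension.Ring, algebraMap P.Ring A t • Algebra.Extension.Cotangent.mk (P := P.toExtension) y =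
      Algebra.Extension.Cotangent.mk (P := P.toExtension) (t • y) := fun t => by
    rw [map_smul]
    exact IsScalarTower.algebraMap_smul A t _
  have h3 := key s
  rw [Algebra.Generators.algebraMap_eq, haeval] at h3
  have h4 := h3.symm.trans h2
  rw [Algebra.Extension.Cotangent.mk_eq_zero_iff] at h4
  exact (SetLike.ext_iff.1 (congrArg (· ^ 2) hker) _).1 h4

/-- The first cotangent homology of a flat complete intersection with generically smooth fibres vanishes. -/
theorem subsingleton_h1Cotangent_of_flat {A : Type u} [CommRing A] [IsNoetherianRing A]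
    (P : Type u) [CommRing P] [Algebra A P] [Module.Flat A P] (hlci : LCI.IsLCI A P)
    (hgs : ∀ 𝔓 : PrimeSpectrum P,
      (∀ 𝔔 : PrimeSpectrum P, 𝔔 ≤ 𝔓 →
          𝔔.asIdeal.comap (algebraMap A P) = 𝔓.asIdeal.comap (algebraMap A P) → 𝔔 = 𝔓) →
        𝔓 ∈ Algebra.smoothLocus A P) :
    Subsingleton (Algebra.H1Cotangent A P) := by
  classical
  obtain ⟨-, n, f, hf, hI⟩ := hlci
  set I := RingHom.ker f.toRingHom with hIdef
  haveI : Algebra.Smooth A (MvPolynomial (Fin n) A) := ⟨inferInstance, inferInstance⟩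
  haveI : Module.Flat A (MvPolynomial (Fin n) A ⧸ I) :=
    Module.Flat.of_linearEquiv (Ideal.quotientKerAlgEquivOfSurjective hf).toLinearEquiv
  have hsurj : Function.Surjective f.toRingHom := hf
  suffices h : ∀ x : (Algebra.Generators.ofAlgHom f hf).toExtension.H1Cotangent, x = 0 by
    haveI : Subsingleton (Algebra.Generators.ofAlgHom f hf).toExtension.H1Cotangent := subsingleton_of_forall_eq 0 h
    exact (Algebra.Generators.ofAlgHom f hf).equivH1Cotangent.symm.toEquiv.subsingleton
  intro x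
  ext1
  rw [Algebra.Extension.H1Cotangent.val_zero]
  obtain ⟨y, hyx⟩ := Algebra.Extension.Cotangent.mk_surjective x.1
  rw [← hyx, Algebra.Extension.Cotangent.mk_eq_zero_iff]
  let y' : MvPolynomial (Fin n) A := y.1
  have hker : (Algebra.Generators.ofAlgHom f hf).toExtension.ker = I := by
    show RingHom.ker (algebraMap (Algebra.Generators.ofAlgHom f hf).Ring P) = _
    rw [Algebra.Generators.algebraMap_eq,
      show MvPolynomial.aeval (Algebra.Generators.ofAlgHom f hf).val = f by ext; simp [Algebra.Generators.ofAlgHom]]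
    rfl
  have hy' : y' ∈ I := (SetLike.ext_iff.1 hker _).1 y.2
  let T : Ideal (MvPolynomial (Fin n) A) := (I ^ 2).colon {y'}
  have hT : ∀ r, r ∈ T ↔ r * y' ∈ I ^ 2 := fun r => Submodule.mem_colon_singleton
  have hTq : ∀ q ∈ associatedPrimes (MvPolynomial (Fin n) A) (MvPolynomial (Fin n) A ⧸ I), ¬ T ≤ q := by
    intro q hq hle
    haveI := hq.isPrime
    have hIq : I ≤ q := by
      have h2 := IsAssociatedPrime.annihilator_le hq
      rwa [Submodule.annihilator_top, Ideal.annihilator_quotient] at h2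
    haveI : (q.map f.toRingHom).IsPrime := Ideal.map_isPrime_of_surjective hsurj hIq
    have hc : (q.map f.toRingHom).comap f.toRingHom = q := by
      rw [Ideal.comap_map_of_surjective' _ hsurj, sup_eq_left]; exact hIq
    have hcA : ∀ Q : Ideal P, (Q.comap f.toRingHom).comap (algebraMap A _) = Q.comap (algebraMap A P) := fun Q => by
      rw [Ideal.comap_comap]
      congr 1
      exact f.comp_algebraMap
    have hsm : Algebra.FormallySmooth A (Localization.AtPrime (q.map f.toRingHom)) := by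
      refine hgs ⟨q.map f.toRingHom, inferInstance⟩ fun 𝔔 hle' hp => PrimeSpectrum.ext ?_
      have h1 := eq_of_le_of_associated (A := A) hI hq (q' := 𝔔.asIdeal.comap f.toRingHom)
        (fun a ha => by rw [Ideal.mem_comap, RingHom.mem_ker.1 ha]; exact zero_mem _)
        (hc ▸ Ideal.comap_mono hle') (by rw [hcA, hp, ← hcA, hc])
      have h2 := congrArg (Ideal.map f.toRingHom) h1
      rw [Ideal.map_comap_of_surjective _ hsurj] at h2
      exact h2
    obtain ⟨s, hs, hsy⟩ := exists_mul_mem_sq f hf (q.map f.toRingHom) hyx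
    exact hs (Ideal.mem_map_of_mem f.toRingHom (hle ((hT s).2 hsy)))
  have hfin := associatedPrimes.finite (MvPolynomial (Fin n) A) (MvPolynomial (Fin n) A ⧸ I)
  obtain ⟨s, hsT, hsq⟩ : ∃ s ∈ T, s ∉ ⋃ p ∈ associatedPrimes (MvPolynomial (Fin n) A) (MvPolynomial (Fin n) A ⧸ I),
      (p : Set (MvPolynomial (Fin n) A)) := by
    by_contra hcon
    push_neg at hcon
    obtain ⟨p, hp, hle⟩ := (Ideal.subset_union_prime_finite hfin ⊥ ⊥ fun p hp _ _ => hp.isPrime).1 hcon
    exact hTq p hp hle
  refine (SetLike.ext_iff.1 (congrArg (· ^ 2) hker) _).2 (mem_sq_of_regular hI hy' (fun r hr => ?_) ((hT s).1 hsT))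
  rw [biUnion_associatedPrimes_eq_zero_divisors] at hsq
  by_contra hne
  refine hsq ⟨Ideal.Quotient.mk I r, fun h => hne (Ideal.Quotient.eq_zero_iff_mem.1 h), ?_⟩
  show Ideal.Quotient.mk I (s * r) = 0
  exact Ideal.Quotient.eq_zero_iff_mem.2 hr

end GrothLib.LciH1
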