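import Groth.Agent.Lib.LciH1.Field
import Groth.Agent.Lib.RelReg.Fibre
import Groth.Agent.Lib.HB26.Spread
import Groth.Agent.Lib.DimCut.StalkFibre
import Mathlib

/-!
# Associated primes of flat local complete intersections are minimal in their fibres
-/

universe u

open IsLocalRing RingTheory.Sequence
open scoped TensorProduct

namespace GrothLib.LciH1

theorem isH1Regular_of_isWeaklyRegular {L : Type u} [CommRing L] {c : ℕ} (g : Fin c → L)
    (hg : IsWeaklyRegular L (List.ofFn g)) : CAlgX.IsH1Regular g := by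
  intro a ha
  refine Submodule.span_le.2 ?_ (GrothLib.KoszulH1.mem_triv_of_isWeaklyRegular g hg a
    (by rw [← ha]; exact Finset.sum_congr rfl fun i _ => mul_comm _ _))
  rintro _ ⟨i, j, x, rfl⟩
  have : (g j • (Pi.single i x : Fin c → L) - g i • Pi.single j x) = x • (Pi.single i (g j) - Pi.single j (g i)) := by
    rw [smul_sub, ← Pi.single_smul', ← Pi.single_smul', ← Pi.single_smul', ← Pi.single_smul']
    simp [mul_comm]
  rw [this]
  exact Submodule.smul_mem _ _ (Submodule.subset_span ⟨i, j, rfl⟩)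

variable (A : Type u) {L : Type u} [CommRing A] [IsLocalRing A] [CommRing L] [Algebra A L] [IsLocalRing L]
  [IsNoetherianRing L] [IsLocalHom (algebraMap A L)]

theorem injective_lTensor_of_regular {M : Type u} [AddCommGroup M] [Module A M] [Module L M] [IsScalarTower A L M]
    (x : L) (hx : IsSMulRegular (M ⧸ ((maximalIdeal A).map (algebraMap A L) • ⊤ : Submodule L M)) x) :
    Function.Injective (((LinearMap.lsmul L M x).restrictScalars A).lTensor (ResidueField A)) := by
  have hmem : ∀ m : M, m ∈ ((maximalIdeal A).map (algebraMap A L) • ⊤ : Submodule L M) ↔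
      m ∈ maximalIdeal A • (⊤ : Submodule A M) := fun m =>
    iff_of_eq (congrArg (fun P : Submodule A M => m ∈ P)
      ((Ideal.smul_restrictScalars (maximalIdeal A) (⊤ : Submodule L M)).trans rfl))
  rw [injective_iff_map_eq_zero]
  intro t ht
  obtain ⟨m, rfl⟩ : ∃ m : M, (1 : ResidueField A) ⊗ₜ[A] m = t :=
    TensorProduct.mk_surjective A M (ResidueField A) IsLocalRing.residue_surjective t
  rw [LinearMap.lTensor_tmul] at ht
  have h1 := (Submodule.Quotient.mk_eq_zero _).mpr ((hmem _).mpr ((GrothLib.Flatness.one_tmul_eq_zero_iff _ _).mp ht))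
  have h2 := hx.right_eq_zero_of_smul (x := Submodule.Quotient.mk m)
    (by rw [← Submodule.Quotient.mk_smul]; exact h1)
  exact (GrothLib.Flatness.one_tmul_eq_zero_iff _ _).mpr ((hmem m).mp ((Submodule.Quotient.mk_eq_zero _).mp h2))

theorem maximalIdeal_le_of_associated {c : ℕ} (g : Fin c → L) (hg : IsWeaklyRegular L (List.ofFn g))
    (hm : ∀ i, g i ∈ maximalIdeal L) [Module.Flat A (L ⧸ Ideal.span (Set.range g))]
    [LocCoh.IsCohenMacaulayLocalRing (L ⧸ (maximalIdeal A).map (algebraMap A L))]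
    (a : Ideal A) {z : L} (hz : z ∉ Ideal.span (Set.range g) ⊔ a.map (algebraMap A L))
    (hzm : ∀ x ∈ maximalIdeal L, x * z ∈ Ideal.span (Set.range g) ⊔ a.map (algebraMap A L))
    (Q : Ideal L) [Q.IsPrime] (hgQ : Ideal.span (Set.range g) ≤ Q)
    (hpQ : (maximalIdeal A).map (algebraMap A L) ≤ Q) : maximalIdeal L ≤ Q := by
  classical
  set pL := (maximalIdeal A).map (algebraMap A L)
  set J := Ideal.span (Set.range g)
  set π := Ideal.Quotient.mk pL
  haveI : IsLocalHom π := .of_surjective π Ideal.Quotient.mk_surjective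
  have hm' : ∀ i, π (g i) ∈ maximalIdeal (L ⧸ pL) := fun i => map_nonunit π _ (hm i)
  have hreg := GrothLib.SeqKinds.isWeaklyRegular_of_isQuasiRegular (fun i => π (g i)) hm'
    (GrothLib.RelReg.isQuasiRegular_fibre g
      (GrothLib.SeqKinds.isQuasiRegular_of_isH1Regular g (isH1Regular_of_isWeaklyRegular g hg)))
  have hofl : Ideal.ofList (List.ofFn fun i => π (g i)) = J.map π := by
    rw [GrothLib.KoszulH1.ofList_ofFn, Ideal.map_span, ← Set.range_comp]; rfl
  have hsmul : ∀ (b : Ideal A) (w : L), Ideal.Quotient.mk J w ∈ (b • ⊤ : Submodule A (L ⧸ J)) ↔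
      w ∈ J ⊔ b.map (algebraMap A L) := fun b w => by
    rw [Ideal.smul_top_eq_map, Submodule.restrictScalars_mem, IsScalarTower.algebraMap_eq A L (L ⧸ J),
      ← Ideal.map_map, Ideal.Quotient.algebraMap_eq, Ideal.mem_quotient_iff_mem_sup, sup_comm]
  have hmax : maximalIdeal (L ⧸ pL) ∈ associatedPrimes (L ⧸ pL) ((L ⧸ pL) ⧸ J.map π) := by
    have hzd : ∀ x ∈ maximalIdeal (L ⧸ pL), ∃ w : (L ⧸ pL) ⧸ J.map π, w ≠ 0 ∧ x • w = 0 := by
      intro x hx
      by_contra hcon
      push_neg at hcon
      obtain ⟨x, rfl⟩ := Ideal.Quotient.mk_surjective x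
      have hxm : x ∈ maximalIdeal L := fun hu => hx (hu.map π)
      have hr : IsSMulRegular ((L ⧸ J) ⧸ (pL • ⊤ : Submodule L (L ⧸ J))) x := by
        rw [isSMulRegular_iff_right_eq_zero_of_smul]
        intro m hm0
        obtain ⟨m, rfl⟩ := Submodule.Quotient.mk_surjective _ m
        obtain ⟨a, rfl⟩ := Ideal.Quotient.mk_surjective m
        rw [← Submodule.Quotient.mk_smul, Submodule.Quotient.mk_eq_zero] at hm0
        have hmem : ∀ b : L, Ideal.Quotient.mk J b ∈ (pL • ⊤ : Submodule L (L ⧸ J)) ↔ π b ∈ J.map π := by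
          intro b
          rw [Ideal.smul_top_eq_map, Submodule.restrictScalars_mem, Ideal.Quotient.algebraMap_eq,
            Ideal.mem_quotient_iff_mem_sup, Ideal.mem_quotient_iff_mem_sup, sup_comm]
        rw [Submodule.Quotient.mk_eq_zero, hmem]
        have h1 := (hmem (x * a)).1 hm0
        by_contra hne
        refine hcon (Ideal.Quotient.mk _ (π a)) (fun h => hne (Ideal.Quotient.eq_zero_iff_mem.1 h)) ?_
        show Ideal.Quotient.mk (J.map π) (π x * π a) = 0
        rw [← map_mul, Ideal.Quotient.eq_zero_iff_mem]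
        exact h1
      refine hz ((hsmul a z).1 ?_)
      refine GrothLib.Flatness.mem_smul_top_of_map_mem (S := L) ((LinearMap.lsmul L (L ⧸ J) x).restrictScalars A)
        (injective_lTensor_of_regular A x hr) a (Ideal.Quotient.mk J z) ?_
      exact (hsmul a (x * z)).2 (hzm x hxm)
    have hsub : (maximalIdeal (L ⧸ pL) : Set (L ⧸ pL)) ⊆
        ⋃ p ∈ associatedPrimes (L ⧸ pL) ((L ⧸ pL) ⧸ J.map π), p := by
      rw [biUnion_associatedPrimes_eq_zero_divisors]
      intro x hx
      exact hzd x hx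
    have hfin := associatedPrimes.finite (L ⧸ pL) ((L ⧸ pL) ⧸ J.map π)
    obtain ⟨p, hp, hle⟩ : ∃ p ∈ associatedPrimes (L ⧸ pL) ((L ⧸ pL) ⧸ J.map π), maximalIdeal (L ⧸ pL) ≤ p :=
      (Ideal.subset_union_prime_finite hfin ⊥ ⊥ fun p hp _ _ => hp.isPrime).1 hsub
    exact (maximalIdeal.isMaximal _).eq_of_le hp.isPrime.ne_top hle ▸ hp
  have hmin := mem_minimalPrimes_of_associated _ hreg
    (fun r hr => by obtain ⟨i, rfl⟩ := List.mem_ofFn.1 hr; exact hm' i) _ (by rw [hofl]; exact hmax)
  rw [hofl] at hmin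
  haveI : (Q.map π).IsPrime := Ideal.map_isPrime_of_surjective Ideal.Quotient.mk_surjective (by rw [Ideal.mk_ker]; exact hpQ)
  have h1 := hmin.2 (y := Q.map π) ⟨inferInstance, Ideal.map_mono hgQ⟩
    (IsLocalRing.le_maximalIdeal Ideal.IsPrime.ne_top')
  intro x hx
  have h2 := h1 (map_nonunit π x hx)
  rw [Ideal.mem_quotient_iff_mem hpQ] at h2
  exact h2

end GrothLib.LciH1

namespace GrothLib.LciH1

variable {A R : Type u} [CommRing A] [IsNoetherianRing A] [CommRing R] [Algebra A R] [Algebra.Smooth A R]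

set_option maxHeartbeats 800000 in
/-- An associated prime of the pullback of a flat relative complete intersection to a closed subscheme of the
base is minimal in its fibre. -/
theorem eq_of_le_of_associated_sup {I : Ideal R} (hI : LCI.IsKoszulRegularIdeal I) [Module.Flat A (R ⧸ I)]
    (J₀ : Ideal A) {q : Ideal R} (hq : q ∈ associatedPrimes R (R ⧸ (I ⊔ J₀.map (algebraMap A R)))) {q' : Ideal R} [q'.IsPrime] (hIq' : I ≤ q')
    (hle : q' ≤ q) (hp : q'.comap (algebraMap A R) = q.comap (algebraMap A R)) : q' = q := by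
  haveI := hq.isPrime
  haveI : IsNoetherianRing R := Algebra.FiniteType.isNoetherianRing A R
  set p := q.comap (algebraMap A R) with hpdef
  haveI : q.LiesOver p := ⟨rfl⟩
  set L := Localization.AtPrime q
  set Lp := Localization.AtPrime p
  letI : Algebra Lp L := Localization.AtPrime.algebraOfLiesOver p q
  haveI : IsScalarTower A Lp L := inferInstance
  haveI : IsLocalHom (algebraMap Lp L) := inferInstance
  obtain ⟨-, w, hw⟩ := isAssociatedPrime_iff.1 hq
  obtain ⟨z, rfl⟩ := Ideal.Quotient.mk_surjective w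
  have hzq : ∀ r : R, r ∈ q ↔ r * z ∈ I ⊔ J₀.map (algebraMap A R) := fun r => by
    rw [hw, Submodule.mem_colon_singleton, Submodule.mem_bot, Algebra.smul_def, Ideal.Quotient.algebraMap_eq,
      ← map_mul, Ideal.Quotient.eq_zero_iff_mem]
  have hIq : I ≤ q := fun a ha => (hzq a).2 (Ideal.mul_mem_right _ _ (Submodule.mem_sup_left ha))
  obtain ⟨c, g, hg, hgm, hgI⟩ := exists_weaklyRegular hI q hIq
  haveI : Module.Flat A (L ⧸ Ideal.span (Set.range g)) := by
    rw [← hgI]
    haveI : Module.Flat A ((R ⧸ I) ⊗[R] L) := Module.Flat.trans A (R ⧸ I) _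
    let e : (L ⧸ I.map (algebraMap R L)) ≃ₗ[A] (R ⧸ I) ⊗[R] L :=
      (((Algebra.TensorProduct.quotIdealMapEquivTensorQuot L I).toLinearEquiv.restrictScalars R) ≪≫ₗ
        TensorProduct.comm R L (R ⧸ I)).restrictScalars A
    exact Module.Flat.of_linearEquiv e
  haveI : Module.Flat Lp (L ⧸ Ideal.span (Set.range g)) :=
    (Module.flat_iff_of_isLocalization Lp p.primeCompl _).2 inferInstance
  set Qf := PrimeSpectrum.primesOverOrderIsoFiber A R p ⟨q, inferInstance, ⟨rfl⟩⟩
  have hQf : Qf.asIdeal.comap Algebra.TensorProduct.includeRight = q := by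
    rw [← PrimeSpectrum.coe_primesOverOrderIsoFiber_symm_apply p Qf, OrderIso.symm_apply_apply]
  haveI : LocCoh.IsCohenMacaulayLocalRing (L ⧸ (maximalIdeal Lp).map (algebraMap Lp L)) := by
    have hm : (maximalIdeal Lp).map (algebraMap Lp L) = p.map (algebraMap A L) := by
      rw [← Localization.AtPrime.map_eq_maximalIdeal, Ideal.map_map, ← IsScalarTower.algebraMap_eq]
    haveI := GrothLib.HB26.isCohenMacaulayRing_of_smooth p.ResidueField (p.Fiber R)
    haveI : LocCoh.IsCohenMacaulayLocalRing (Localization.AtPrime Qf.asIdeal) :=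
      LocCoh.IsCohenMacaulayRing.isCohenMacaulayLocalRing_localization _
    have key : ∀ (r : Ideal R) [r.IsPrime] [r.LiesOver p], r = Qf.asIdeal.comap Algebra.TensorProduct.includeRight →
        Nonempty (Localization.AtPrime Qf.asIdeal ≃+* (Localization.AtPrime r ⧸ p.map (algebraMap A (Localization.AtPrime r)))) := by
      intro r _ _ hr
      subst hr
      letI := Localization.AtPrime.algebraOfLiesOver p (Qf.asIdeal.comap Algebra.TensorProduct.includeRight : Ideal R)
      exact ⟨(Ideal.Fiber.localizationAlgEquivQuotient p Qf.asIdeal).toRingEquiv⟩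
    obtain ⟨e⟩ := key q hQf.symm
    rw [hm]
    exact GrothLib.HB26.isCohenMacaulayLocalRing_of_ringEquiv (R := Localization.AtPrime Qf.asIdeal) e
  have hmap : Ideal.span (Set.range g) ⊔ (J₀.map (algebraMap A Lp)).map (algebraMap Lp L) =
      (I ⊔ J₀.map (algebraMap A R)).map (algebraMap R L) := by
    rw [← hgI, Ideal.map_sup, Ideal.map_map, Ideal.map_map, ← IsScalarTower.algebraMap_eq, ← IsScalarTower.algebraMap_eq]
  have hz : algebraMap R L z ∉ Ideal.span (Set.range g) ⊔ (J₀.map (algebraMap A Lp)).map (algebraMap Lp L) := by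
    rw [hmap, IsLocalization.algebraMap_mem_map_algebraMap_iff q.primeCompl L]
    rintro ⟨s, hs, hsz⟩
    exact hs ((hzq s).2 hsz)
  have hzm : ∀ x ∈ maximalIdeal L, x * algebraMap R L z ∈
      Ideal.span (Set.range g) ⊔ (J₀.map (algebraMap A Lp)).map (algebraMap Lp L) := by
    rw [hmap]
    intro x hx
    rw [← Localization.AtPrime.map_eq_maximalIdeal] at hx
    refine Submodule.span_induction (fun y hy => ?_) (by simp) (fun a b _ _ ha hb => by
      rw [add_mul]; exact add_mem ha hb) (fun a b _ hb => by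
      rw [smul_eq_mul, mul_assoc]; exact Ideal.mul_mem_left _ _ hb) hx
    obtain ⟨r, hr, rfl⟩ := hy
    rw [← map_mul]
    exact Ideal.mem_map_of_mem _ ((hzq r).1 hr)
  have hd : Disjoint (q.primeCompl : Set R) (q' : Set R) :=
    Set.disjoint_left.2 fun x hx hx' => hx (hle hx')
  haveI := IsLocalization.isPrime_of_isPrime_disjoint q.primeCompl L q' inferInstance hd
  have hkey := maximalIdeal_le_of_associated Lp g hg hgm _ hz hzm (q'.map (algebraMap R L))
    (hgI ▸ Ideal.map_mono hIq') (by
      rw [← Localization.AtPrime.map_eq_maximalIdeal, Ideal.map_map, ← IsScalarTower.algebraMap_eq,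
        IsScalarTower.algebraMap_eq A R L, ← Ideal.map_map]
      exact Ideal.map_mono (Ideal.map_le_iff_le_comap.2 hp.ge))
  refine le_antisymm hle (fun x hx => ?_)
  have := hkey (by rw [← Localization.AtPrime.map_eq_maximalIdeal]; exact Ideal.mem_map_of_mem _ hx :
    algebraMap R L x ∈ maximalIdeal L)
  exact (SetLike.ext_iff.1 (IsLocalization.comap_map_of_isPrime_disjoint q.primeCompl L inferInstance hd) x).1 this

/-- An associated prime of a flat relative complete intersection is minimal in its fibre. -/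
theorem eq_of_le_of_associated {I : Ideal R} (hI : LCI.IsKoszulRegularIdeal I) [Module.Flat A (R ⧸ I)]
    {q : Ideal R} (hq : q ∈ associatedPrimes R (R ⧸ I)) {q' : Ideal R} [q'.IsPrime] (hIq' : I ≤ q')
    (hle : q' ≤ q) (hp : q'.comap (algebraMap A R) = q.comap (algebraMap A R)) : q' = q :=
  eq_of_le_of_associated_sup hI ⊥ (by rwa [Ideal.map_bot, sup_bot_eq]) hIq' hle hp

end GrothLib.LciH1
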